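import Groth.Prelude.Def_W4stkschemesremainderFib
import Mathlib.AlgebraicGeometry.Morphisms.FlatRank
import Mathlib.AlgebraicGeometry.Morphisms.LocalFlatDescent
import Mathlib.AlgebraicGeometry.Morphisms.Immersion
import Mathlib.AlgebraicGeometry.ZariskisMainTheorem

/-! Bounds on degrees of fibres (`BddFib.FibreDegLE`). -/

set_option autoImplicit false
universe u

open AlgebraicGeometry CategoryTheory Limits

namespace Groth.Agent.Lib.FibreDeg.Basic

/-- `T → S` is finite of degree at most `n` everywhere. -/
def FD {T S : Scheme.{u}} (p : T ⟶ S) (n : ℕ) : Prop := IsFinite p ∧ ∀ s : S, p.finrank s ≤ n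

theorem flat_of_field {K : Type u} [Field K] {T : Scheme.{u}} (p : T ⟶ Spec (CommRingCat.of K)) : Flat p := by
  have : Subsingleton (Spec (CommRingCat.of K)) := inferInstanceAs (Subsingleton (PrimeSpectrum K))
  infer_instance

theorem fd_comp_iso {T T' S : Scheme.{u}} (e : T' ⟶ T) [IsIso e] (p : T ⟶ S) [Flat p] (n : ℕ) :
    FD (e ≫ p) n ↔ FD p n := by
  have h : IsFinite (e ≫ p) ↔ IsFinite p := MorphismProperty.cancel_left_of_respectsIso @IsFinite e p
  constructor
  · rintro ⟨h1, h2⟩
    have := h.1 h1
    exact ⟨this, fun s => (congrFun (Scheme.Hom.finrank_comp_left_of_isIso e p) s).ge.trans (h2 s)⟩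
  · rintro ⟨h1, h2⟩
    exact ⟨h.2 h1, fun s => (congrFun (Scheme.Hom.finrank_comp_left_of_isIso e p) s).le.trans (h2 s)⟩

theorem finiteOfDegLE_iff {K : Type u} [Field K] {T : Scheme.{u}} (p : T ⟶ Spec (CommRingCat.of K)) (n : ℕ) :
    BddFib.FiniteOfDegLE (CommRingCat.of K) p n ↔ FD p n := by
  let α : CommRingCat.of K ⟶ Γ(T, ⊤) := (Scheme.ΓSpecIso (CommRingCat.of K)).inv ≫ p.appTop
  have key : ∀ (_ : IsAffine T), p = T.isoSpec.hom ≫ Spec.map α := fun _ => by
    have h := Scheme.isoSpec_hom_naturality p
    rw [Spec.map_comp, ← Category.assoc, h, Category.assoc]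
    simp [Scheme.isoSpec_Spec_hom]
  letI := BddFib.secAlgebra (CommRingCat.of K) p
  have hα : α = CommRingCat.ofHom (algebraMap K Γ(T, ⊤)) := rfl
  have hrank : ∀ (_ : IsAffine T) (_ : Module.Finite K Γ(T, ⊤)) (s : Spec (CommRingCat.of K)),
      p.finrank s = Module.finrank K Γ(T, ⊤) := by
    intro hT hF s
    have : IsFinite (Spec.map α) := (IsFinite.SpecMap_iff _).2 (RingHom.finite_algebraMap.2 hF)
    have := flat_of_field (Spec.map α)
    rw [key hT, congrFun (Scheme.Hom.finrank_comp_left_of_isIso T.isoSpec.hom (Spec.map α)) s, hα,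
      Scheme.Hom.finrank_SpecMap_algebraMap, Module.rankAtStalk_eq_finrank_of_free]
    rfl
  constructor
  · rintro ⟨hT, hF, hn⟩
    refine ⟨?_, fun s => (hrank hT hF s).le.trans hn⟩
    rw [key hT, MorphismProperty.cancel_left_of_respectsIso @IsFinite]
    exact (IsFinite.SpecMap_iff _).2 (RingHom.finite_algebraMap.2 hF)
  · rintro ⟨hp, hn⟩
    have hT : IsAffine T := isAffine_of_isAffineHom p
    have hF : Module.Finite K Γ(T, ⊤) := by
      rw [key hT, MorphismProperty.cancel_left_of_respectsIso @IsFinite, IsFinite.SpecMap_iff] at hp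
      exact RingHom.finite_algebraMap.1 hp
    exact ⟨hT, hF, (hrank hT hF (IsLocalRing.closedPoint K)).ge.trans (hn _)⟩

theorem isFinite_of_isPullback_field {K L : Type u} [Field K] [Field L] {T' T : Scheme.{u}}
    {g' : T' ⟶ T} {p' : T' ⟶ Spec (CommRingCat.of L)} {p : T ⟶ Spec (CommRingCat.of K)}
    {g : Spec (CommRingCat.of L) ⟶ Spec (CommRingCat.of K)}
    (h : IsPullback g' p' p g) [IsFinite p'] : IsFinite p := by
  have := flat_of_field g
  have hsK : Subsingleton (Spec (CommRingCat.of K)) := inferInstanceAs (Subsingleton (PrimeSpectrum K))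
  have : Surjective g := inferInstance
  have hP : (@Surjective ⊓ @Flat ⊓ @QuasiCompact : MorphismProperty Scheme) g :=
    ⟨⟨inferInstance, inferInstance⟩, inferInstance⟩
  have : LocallyOfFiniteType p :=
    MorphismProperty.of_isPullback_of_descendsAlong (P := @LocallyOfFiniteType) h.flip hP inferInstance
  have huc : UniversallyClosed p :=
    MorphismProperty.of_isPullback_of_descendsAlong (P := @UniversallyClosed) h.flip hP inferInstance
  have : Surjective g' := MorphismProperty.of_isPullback (P := @Surjective) h.flip inferInstance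
  have hfin : ∀ s, (p ⁻¹' {s}).Finite := by
    intro s
    have h2 : Finite T' := by
      have : Subsingleton (Spec (CommRingCat.of L)) := inferInstanceAs (Subsingleton (PrimeSpectrum L))
      have h3 := p'.finite_preimage_singleton (IsLocalRing.closedPoint L)
      exact Set.finite_univ_iff.1 (h3.subset fun x _ => Subsingleton.elim (α := PrimeSpectrum L) _ _)
    have : Finite T := Finite.of_surjective _ g'.surjective
    exact Set.toFinite _
  have : LocallyQuasiFinite p := locallyQuasiFinite_iff_finite_preimage_singleton.2 hfin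
  have hsep : IsSeparated p := by
    refine ⟨IsClosedImmersion.of_isPreimmersion _ ?_⟩
    have := flat_of_field g
    have : Flat g' := MorphismProperty.of_isPullback (P := @Flat) h.flip inferInstance
    have : QuasiCompact g' := MorphismProperty.of_isPullback (P := @QuasiCompact) h.flip inferInstance
    let m : pullback p' p' ⟶ pullback p p := pullback.map _ _ _ _ g' g' g h.w.symm h.w.symm
    have hm : IsPullback m (pullback.fst p' p' ≫ p') (pullback.fst p p ≫ p) g := by
      have h1 : IsPullback (pullback.fst p' p' ≫ g') (pullback.snd p' p') p (p' ≫ g) :=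
        (IsPullback.of_hasPullback p' p').paste_horiz h
      have h2 : IsPullback m (pullback.snd p' p') (pullback.snd p p) g' := by
        refine IsPullback.of_right (h₁₂ := pullback.fst p p) ?_ (pullback.lift_snd _ _ _) (IsPullback.of_hasPullback p p)
        have e : pullback.fst p' p' ≫ g' = m ≫ pullback.fst p p := (pullback.lift_fst _ _ _).symm
        rw [← e, h.w]
        exact h1
      have h3 := h2.paste_vert h
      rwa [pullback.condition, pullback.condition]
    have : Surjective m := MorphismProperty.of_isPullback (P := @Surjective) hm.flip inferInstance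
    have : Flat m := MorphismProperty.of_isPullback (P := @Flat) hm.flip inferInstance
    have : QuasiCompact m := MorphismProperty.of_isPullback (P := @QuasiCompact) hm.flip inferInstance
    rw [← (Flat.isQuotientMap_of_surjective m).isCoinducing.isClosed_preimage]
    have e : pullback.diagonal p' ≫ m = g' ≫ pullback.diagonal p := by
      apply pullback.hom_ext <;> simp only [m, pullback.map, Category.assoc] <;> simp [pullback.lift_fst, pullback.lift_snd]
    have hr : m ⁻¹' Set.range (pullback.diagonal p) = Set.range (pullback.diagonal p') := by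
      have hsq : IsPullback g' (pullback.diagonal p') (pullback.diagonal p) m := by
        refine IsPullback.of_bot (v₂₁ := pullback.fst p' p' ≫ p') (v₂₂ := pullback.fst p p ≫ p) ?_ e.symm hm
        simp only [pullback.diagonal_fst_assoc]
        exact h
      ext z
      constructor
      · rintro ⟨x, hx⟩
        obtain ⟨w, -, hw⟩ := Scheme.Pullback.exists_preimage_pullback (f := pullback.diagonal p) (g := m) x z hx
        refine ⟨hsq.isoPullback.inv w, ?_⟩
        rw [← Scheme.Hom.comp_apply, IsPullback.isoPullback_inv_snd, hw]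
      · rintro ⟨w, rfl⟩
        exact ⟨g' w, by rw [← Scheme.Hom.comp_apply, ← e, Scheme.Hom.comp_apply]⟩
    rw [hr]
    exact (pullback.diagonal p').isClosedEmbedding.isClosed_range
  have : QuasiCompact p := inferInstance
  have : IsProper p := { toIsSeparated := hsep, toUniversallyClosed := huc }
  exact IsFinite.of_isProper_of_locallyQuasiFinite p

theorem fd_iff_of_isPullback {K L : Type u} [Field K] [Field L] {T' T : Scheme.{u}}
    {g' : T' ⟶ T} {p' : T' ⟶ Spec (CommRingCat.of L)} {p : T ⟶ Spec (CommRingCat.of K)}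
    {g : Spec (CommRingCat.of L) ⟶ Spec (CommRingCat.of K)}
    (h : IsPullback g' p' p g) (n : ℕ) : FD p' n ↔ FD p n := by
  have := flat_of_field p
  constructor
  · rintro ⟨h1, h2⟩
    have := isFinite_of_isPullback_field h
    refine ⟨this, fun s => ?_⟩
    have hs : g (IsLocalRing.closedPoint L) = s := Subsingleton.elim (α := PrimeSpectrum K) _ _
    rw [← hs, ← Scheme.Hom.finrank_of_isPullback g' p' p g h]
    exact h2 _
  · rintro ⟨h1, h2⟩
    refine ⟨MorphismProperty.of_isPullback h inferInstance, fun s => ?_⟩
    rw [Scheme.Hom.finrank_of_isPullback g' p' p g h]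
    exact h2 _

theorem exists_factor_residueField {Y : Scheme.{u}} {k : Type u} [Field k] (g : Spec (CommRingCat.of k) ⟶ Y) :
    ∃ (y : Y) (a : Y.residueField y ⟶ CommRingCat.of k), g = Spec.map a ≫ Y.fromSpecResidueField y :=
  ⟨_, _, ((Scheme.SpecToEquivOfField k Y).left_inv g).symm⟩

theorem fibreDegLE_iff {X Y : Scheme.{u}} (f : X ⟶ Y) (n : ℕ) :
    BddFib.FibreDegLE f n ↔ ∀ y : Y, FD (f.fiberToSpecResidueField y) n :=
  forall_congr' fun y => finiteOfDegLE_iff (K := Y.residueField y) (f.fiberToSpecResidueField y) n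

theorem fd_pullback_iff {X Y : Scheme.{u}} (f : X ⟶ Y) {k : Type u} [Field k] (y : Y)
    (a : Y.residueField y ⟶ CommRingCat.of k) (n : ℕ) :
    FD (pullback.snd f (Spec.map a ≫ Y.fromSpecResidueField y)) n ↔ FD (f.fiberToSpecResidueField y) n := by
  let l : pullback f (Spec.map a ≫ Y.fromSpecResidueField y) ⟶ f.fiber y :=
    pullback.lift (pullback.fst f (Spec.map a ≫ Y.fromSpecResidueField y))
      (pullback.snd f (Spec.map a ≫ Y.fromSpecResidueField y) ≫ Spec.map a)
      (by rw [pullback.condition, Category.assoc])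
  have hl : l ≫ f.fiberι y = pullback.fst f (Spec.map a ≫ Y.fromSpecResidueField y) := pullback.lift_fst _ _ _
  have h : IsPullback l
      (pullback.snd f (Spec.map a ≫ Y.fromSpecResidueField y)) (f.fiberToSpecResidueField y) (Spec.map a) := by
    refine IsPullback.of_right (h₁₂ := f.fiberι y) ?_ (pullback.lift_snd _ _ _) (IsPullback.of_hasPullback f _)
    rw [hl]
    exact IsPullback.of_hasPullback _ _
  exact fd_iff_of_isPullback (K := Y.residueField y) h n

theorem fd_of_fibreDegLE {X Y : Scheme.{u}} {f : X ⟶ Y} {n : ℕ} (hf : BddFib.FibreDegLE f n)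
    {k : Type u} [Field k] (g : Spec (CommRingCat.of k) ⟶ Y) : FD (pullback.snd f g) n := by
  obtain ⟨y, a, rfl⟩ := exists_factor_residueField g
  exact (fd_pullback_iff f y a n).2 ((fibreDegLE_iff f n).1 hf y)

theorem fd_fiber_iff_of_isPullback {X Y X' Y' : Scheme.{u}} {f : X ⟶ Y} {g : Y' ⟶ Y} {f' : X' ⟶ Y'}
    {g' : X' ⟶ X} (h : IsPullback g' f' f g) (y : Y') (n : ℕ) :
    FD (f'.fiberToSpecResidueField y) n ↔ FD (f.fiberToSpecResidueField (g y)) n :=
  fd_iff_of_isPullback (K := Y.residueField (g y)) (L := Y'.residueField y)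
    (isPullback_fiberToSpecResidueField_of_isPullback h y) n

end Groth.Agent.Lib.FibreDeg.Basic
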