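import Mathlib.RingTheory.Artinian.Module
import Mathlib.RingTheory.Artinian.Ring
import Mathlib.LinearAlgebra.TensorProduct.Quotient
import Mathlib.LinearAlgebra.Dimension.Constructions
import Mathlib.RingTheory.ZariskisMainTheorem
import Mathlib.RingTheory.QuasiFinite.Basic
import Mathlib.RingTheory.LocalRing.ResidueField.Fiber
import Mathlib.RingTheory.Localization.BaseChange
import Mathlib.RingTheory.Flat.FaithfullyFlat.Basic

/-! Algebraic bounds on degrees of fibres. -/

set_option autoImplicit false
universe u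

open scoped TensorProduct

namespace Groth.Agent.Lib.FibreDeg.Algebra

theorem step {A B : Type u} [CommRing A] [AddCommGroup B] [Module A B] (N : Submodule A B) (I J : Ideal A)
    (hI : N ⊔ I • ⊤ = ⊤) (hJ : N ⊔ J • ⊤ = ⊤) : N ⊔ (I * J) • ⊤ = ⊤ := by
  refine eq_top_iff.mpr ((le_of_eq hI.symm).trans (sup_le le_sup_left ?_))
  calc I • (⊤ : Submodule A B) = I • (N ⊔ J • ⊤) := by rw [hJ]
    _ ≤ N ⊔ (I * J) • ⊤ := by
      rw [Submodule.smul_sup, Submodule.mul_smul]
      exact sup_le (Submodule.smul_le_right.trans le_sup_left) le_sup_right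

/-- Over an artinian ring, if every closed fibre needs at most `n` generators then so does the
module (no finiteness assumed). -/
theorem exists_span_eq_top {A B : Type u} [CommRing A] [IsArtinianRing A] [AddCommGroup B] [Module A B]
    {n : ℕ} (h : ∀ m : Ideal A, m.IsMaximal → ∃ b : Fin n → B,
      Submodule.span A (Set.range b) ⊔ m • ⊤ = ⊤) :
    ∃ b : Fin n → B, Submodule.span A (Set.range b) = ⊤ := by
  classical
  let M := MaximalSpectrum A
  haveI : Fintype M := Fintype.ofFinite M
  have hpw : Pairwise fun i j : M => IsCoprime i.asIdeal j.asIdeal := fun i j hij =>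
    Ideal.isCoprime_iff_sup_eq.mpr (i.isMaximal.coprime_of_ne j.isMaximal fun e =>
      hij (MaximalSpectrum.ext e))
  choose b hb using fun i : M => h i.asIdeal i.isMaximal
  choose e he using fun i : M => Ideal.pi_quotient_surjective hpw (Pi.single i 1)
  let c : Fin n → B := fun j => ∑ i, e i • b i j
  refine ⟨c, ?_⟩
  let N := Submodule.span A (Set.range c)
  have hN : ∀ i : M, N ⊔ i.asIdeal • ⊤ = ⊤ := by
    intro i
    refine eq_top_iff.mpr ((le_of_eq (hb i).symm).trans (sup_le ?_ le_sup_right))
    rw [Submodule.span_le]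
    rintro _ ⟨j, rfl⟩
    have h1 : c j - b i j ∈ i.asIdeal • (⊤ : Submodule A B) := by
      simp only [c]
      rw [← Finset.add_sum_erase _ _ (Finset.mem_univ i), add_sub_right_comm]
      refine add_mem ?_ (sum_mem fun k hk => ?_)
      · rw [show e i • b i j - b i j = (e i - 1) • b i j by rw [sub_smul, one_smul]]
        refine Submodule.smul_mem_smul ?_ trivial
        rw [← Ideal.Quotient.eq_zero_iff_mem, map_sub, map_one]
        rw [he i i, Pi.single_eq_same, sub_self]
      · refine Submodule.smul_mem_smul ?_ trivial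
        rw [← Ideal.Quotient.eq_zero_iff_mem]
        rw [he k i, Pi.single_eq_of_ne (Finset.ne_of_mem_erase hk).symm]
    have h2 : b i j = c j - (c j - b i j) := by abel
    rw [h2, SetLike.mem_coe]
    exact sub_mem (Submodule.mem_sup_left (Submodule.subset_span ⟨j, rfl⟩))
      (Submodule.mem_sup_right h1)
  let P : Ideal A := ∏ i : M, i.asIdeal
  have hP : N ⊔ P • ⊤ = ⊤ := by
    have : ∀ s : Finset M, N ⊔ (∏ i ∈ s, i.asIdeal) • ⊤ = ⊤ := by
      intro s
      induction s using Finset.induction with
      | empty => simp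
      | insert i s hi ih =>
        rw [Finset.prod_insert hi]
        exact step N i.asIdeal _ (hN i) ih
    exact this Finset.univ
  have hnil : IsNilpotent P := by
    obtain ⟨k, hk⟩ := IsArtinianRing.isNilpotent_jacobson_bot (R := A)
    refine ⟨k, le_bot_iff.mp ((Ideal.pow_right_mono ?_ k).trans hk.le)⟩
    rw [Ideal.jacobson]
    refine le_sInf fun m hm => ?_
    exact (Ideal.prod_le_inf.trans (Finset.inf_le (Finset.mem_univ (⟨m, hm.2⟩ : M))))
  obtain ⟨k, hk⟩ := hnil
  have hpow : ∀ l : ℕ, N ⊔ P ^ l • ⊤ = ⊤ := by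
    intro l
    induction l with
    | zero => simp
    | succ l ih =>
      rw [pow_succ]
      exact step N _ _ ih hP
  have := hpow k
  rw [hk, Submodule.zero_eq_bot, Submodule.bot_smul, sup_bot_eq] at this
  exact this

/-- Composition: degree `≤ n` fibres over a finite algebra of degree `≤ m`. -/
theorem finite_and_finrank_le {K A B : Type u} [Field K] [CommRing A] [CommRing B] [Algebra K A]
    [Algebra K B] [Algebra A B] [IsScalarTower K A B] [Module.Finite K A] {n m : ℕ}
    (hA : Module.finrank K A ≤ m)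
    (h : ∀ p : PrimeSpectrum A, Module.Finite p.asIdeal.ResidueField (p.asIdeal.Fiber B) ∧
      Module.finrank p.asIdeal.ResidueField (p.asIdeal.Fiber B) ≤ n) :
    Module.Finite K B ∧ Module.finrank K B ≤ n * m := by
  classical
  haveI : IsArtinianRing A := IsArtinianRing.of_finite K A
  obtain ⟨b, hb⟩ := exists_span_eq_top (A := A) (B := B) (n := n) (fun q hq => by
    obtain ⟨hf, hr⟩ := h ⟨q, hq.isPrime⟩
    let κ := q.ResidueField
    obtain ⟨v, hv⟩ : ∃ v : Fin n → q.Fiber B, Submodule.span κ (Set.range v) = ⊤ := by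
      let bs := Module.finBasis κ (q.Fiber B)
      refine ⟨fun j => if hj : (j : ℕ) < Module.finrank κ (q.Fiber B) then bs ⟨j, hj⟩ else 0, ?_⟩
      rw [eq_top_iff, ← bs.span_eq]
      refine Submodule.span_mono ?_
      rintro _ ⟨i, rfl⟩
      exact ⟨⟨i, i.2.trans_le hr⟩, by simp⟩
    have hs : Function.Surjective (fun x : B => (1 : κ) ⊗ₜ[A] x) := fun z => by
      induction z using TensorProduct.induction_on with
      | zero => exact ⟨0, TensorProduct.tmul_zero _ _⟩
      | tmul c x =>
        obtain ⟨a, rfl⟩ := Ideal.algebraMap_residueField_surjective q c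
        exact ⟨a • x, by simp only [TensorProduct.tmul_smul, TensorProduct.smul_tmul']; rw [Algebra.smul_def, mul_one]⟩
      | add z z' hz hz' =>
        obtain ⟨x, rfl⟩ := hz
        obtain ⟨x', rfl⟩ := hz'
        exact ⟨x + x', TensorProduct.tmul_add _ _ _⟩
    choose w hw using fun j => hs (v j)
    refine ⟨w, eq_top_iff.mpr fun x _ => ?_⟩
    have h1 : (1 : κ) ⊗ₜ[A] x ∈ Submodule.span κ (Set.range v) := hv ▸ trivial
    obtain ⟨c, hc⟩ := (Submodule.mem_span_range_iff_exists_fun κ).mp h1
    choose a ha using fun j => Ideal.algebraMap_residueField_surjective q (c j)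
    let y := ∑ j, a j • w j
    have h2 : (1 : κ) ⊗ₜ[A] (x - y) = 0 := by
      rw [TensorProduct.tmul_sub, TensorProduct.tmul_sum, ← hc, sub_eq_zero]
      refine Finset.sum_congr rfl fun j _ => ?_
      change _ = (1 : κ) ⊗ₜ[A] (a j • w j)
      rw [TensorProduct.tmul_smul, ← hw j, ← ha j, algebraMap_smul]
    have h3 : x - y ∈ q • (⊤ : Submodule A B) := by
      have e : (1 : A ⧸ q) ⊗ₜ[A] (x - y) = 0 := by
        let φ : (A ⧸ q) ≃ₗ[A] κ := LinearEquiv.ofBijective (Algebra.linearMap (A ⧸ q) κ |>.restrictScalars A)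
          q.bijective_algebraMap_quotient_residueField
        apply (TensorProduct.congr φ (LinearEquiv.refl A B)).injective
        simp only [TensorProduct.congr_tmul, map_zero, LinearEquiv.refl_apply]
        rw [show φ 1 = 1 from map_one (algebraMap (A ⧸ q) κ)]
        exact h2
      have := congrArg (TensorProduct.quotTensorEquivQuotSMul B q) e
      rw [map_zero, ← map_one (Ideal.Quotient.mk q),
        TensorProduct.quotTensorEquivQuotSMul_mk_tmul, one_smul, Submodule.Quotient.mk_eq_zero] at this
      exact this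
    rw [show x = y + (x - y) by abel]
    exact add_mem (Submodule.mem_sup_left (sum_mem fun j _ => Submodule.smul_mem _ _
      (Submodule.subset_span ⟨j, rfl⟩))) (Submodule.mem_sup_right h3))
  let Φ : (Fin n → A) →ₗ[K] B := (Fintype.linearCombination A b).restrictScalars K
  have hΦ : Function.Surjective Φ := fun x => by
    obtain ⟨c, hc⟩ := (Submodule.mem_span_range_iff_exists_fun A).mp
      (hb ▸ trivial : x ∈ Submodule.span A (Set.range b))
    exact ⟨c, by simpa [Φ, Fintype.linearCombination_apply] using hc⟩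
  refine ⟨Module.Finite.of_surjective Φ hΦ, ?_⟩
  refine (LinearMap.finrank_le_finrank_of_surjective hΦ).trans ?_
  rw [Module.finrank_pi_fintype, Finset.sum_const, Finset.card_univ, Fintype.card_fin, smul_eq_mul]
  exact Nat.mul_le_mul_left n hA

theorem surjective_of_finite {K C D : Type u} [Field K] [CommRing C] [CommRing D] [Algebra K C]
    [Algebra K D] [Module.Finite K C] (Φ : C →ₐ[K] D) (r : C) (hr : IsUnit (Φ r))
    (h : ∀ d, ∃ (n : ℕ) (c : C), d * Φ r ^ n = Φ c) : Function.Surjective Φ := by
  haveI : Module.Finite K Φ.range :=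
    Module.Finite.of_surjective Φ.rangeRestrict.toLinearMap Φ.rangeRestrict_surjective
  haveI : IsArtinianRing Φ.range := IsArtinianRing.of_finite K Φ.range
  let rC : Φ.range := ⟨Φ r, r, rfl⟩
  have hnz : rC ∈ nonZeroDivisors Φ.range := mem_nonZeroDivisors_iff.mpr
    ⟨fun x hx => Subtype.ext (hr.mul_right_eq_zero.mp (congrArg Subtype.val hx)),
      fun x hx => Subtype.ext (hr.mul_left_eq_zero.mp (congrArg Subtype.val hx))⟩
  have hrC : IsUnit rC := IsArtinianRing.isUnit_of_mem_nonZeroDivisors hnz
  intro d
  obtain ⟨n, c, hc⟩ := h d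
  obtain ⟨u, hu⟩ := hrC.exists_left_inv
  have hu' : (u : D) * Φ r = 1 := congrArg Subtype.val hu
  have hd : d = Φ c * (u : D) ^ n := by
    rw [← hc, mul_assoc, ← mul_pow, mul_comm (Φ r), hu', one_pow, mul_one]
  obtain ⟨e, he⟩ := (mul_mem ⟨c, rfl⟩ (pow_mem u.2 n) : Φ c * (u : D) ^ n ∈ Φ.range)
  exact ⟨e, he.trans hd.symm⟩

theorem finite_and_finrank_le_card {A K M : Type u} [CommRing A] [Field K] [Algebra A K]
    [AddCommGroup M] [Module A M] (g : Finset M) (hg : Submodule.span A (g : Set M) = ⊤) :
    Module.Finite K (K ⊗[A] M) ∧ Module.finrank K (K ⊗[A] M) ≤ g.card := by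
  classical
  let G : Finset (K ⊗[A] M) := g.image fun x => (1 : K) ⊗ₜ[A] x
  have hspan : Submodule.span K (G : Set (K ⊗[A] M)) = ⊤ := by
    rw [eq_top_iff]
    rintro z -
    induction z using TensorProduct.induction_on with
    | zero => exact zero_mem _
    | add a b ha hb => exact add_mem ha hb
    | tmul c s =>
      rw [show c ⊗ₜ[A] s = c • ((1 : K) ⊗ₜ[A] s) by rw [TensorProduct.smul_tmul', smul_eq_mul, mul_one]]
      refine Submodule.smul_mem _ _ ?_
      have hs : s ∈ Submodule.span A (g : Set M) := hg ▸ trivial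
      induction hs using Submodule.span_induction with
      | mem x hx => exact Submodule.subset_span (Finset.mem_image_of_mem _ hx)
      | zero => rw [TensorProduct.tmul_zero]; exact zero_mem _
      | add a b _ _ ha hb => rw [TensorProduct.tmul_add]; exact add_mem ha hb
      | smul a x _ hx =>
        rw [TensorProduct.tmul_smul, ← algebraMap_smul K a]
        exact Submodule.smul_mem _ _ hx
  refine ⟨⟨⟨_, hspan⟩⟩, ?_⟩
  rw [← finrank_top, ← hspan]
  exact (finrank_span_finset_le_card _).trans Finset.card_image_le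

attribute [local instance] _root_.Algebra.TensorProduct.rightAlgebra in
/-- The map `K ⊗ S' → K ⊗ B_r` is surjective. -/
theorem surjective_map_away {A B K : Type u} [CommRing A] [CommRing B] [Algebra A B] [Field K]
    [Algebra A K] (S' : Subalgebra A B) [Module.Finite K (K ⊗[A] S')] (r : S')
    (h : Function.Bijective (Localization.awayMap S'.val.toRingHom r)) :
    Function.Surjective (_root_.Algebra.TensorProduct.map (AlgHom.id K K)
      ((IsScalarTower.toAlgHom A B (Localization.Away r.1)).comp S'.val)) := by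
  refine surjective_of_finite _ ((1 : K) ⊗ₜ r) ?_ fun z => ?_
  · exact (IsLocalization.Away.algebraMap_isUnit (S := Localization.Away r.1) r.1).map
      (_root_.Algebra.TensorProduct.includeRight : Localization.Away r.1 →ₐ[A] K ⊗[A] Localization.Away r.1)
  · induction z using TensorProduct.induction_on with
    | zero => exact ⟨0, 0, by simp⟩
    | add a b ha hb =>
      obtain ⟨n, c, hc⟩ := ha
      obtain ⟨n', c', hc'⟩ := hb
      refine ⟨n + n', c * ((1 : K) ⊗ₜ r) ^ n' + c' * ((1 : K) ⊗ₜ r) ^ n, ?_⟩
      rw [map_add, map_mul, map_mul, ← hc, ← hc', map_pow, map_pow]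
      ring
    | tmul c b =>
      obtain ⟨w, rfl⟩ := h.2 b
      obtain ⟨a, ⟨_, n, rfl⟩, rfl⟩ := IsLocalization.exists_mk'_eq (Submonoid.powers r) w
      refine ⟨n, c ⊗ₜ a, ?_⟩
      have := congrArg (Localization.awayMap S'.val.toRingHom r)
        (IsLocalization.mk'_spec (Localization.Away r) a (⟨r ^ n, n, rfl⟩ : Submonoid.powers r))
      simp only [map_mul, Localization.awayMap, IsLocalization.Away.map, IsLocalization.map_eq] at this
      simp only [_root_.Algebra.TensorProduct.tmul_pow, one_pow, AlgHom.coe_id, id_eq,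
        _root_.Algebra.TensorProduct.tmul_mul_tmul, mul_one, _root_.Algebra.TensorProduct.map_tmul]
      congr 1
      refine Eq.trans ?_ this
      exact congrArg₂ (· * ·) rfl (map_pow _ _ _).symm

attribute [local instance] _root_.Algebra.TensorProduct.rightAlgebra in
/-- Fibre degrees of a quasi-finite algebra of finite type are universally bounded. -/
theorem exists_bound (A B : Type u) [CommRing A] [CommRing B] [Algebra A B]
    [Algebra.FiniteType A B] [Algebra.QuasiFinite A B] :
    ∃ N : ℕ, ∀ (K : Type u) [Field K] [Algebra A K],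
      Module.Finite K (K ⊗[A] B) ∧ Module.finrank K (K ⊗[A] B) ≤ N := by
  classical
  have key : ∀ q : PrimeSpectrum B, ∃ (S' : Subalgebra A B), S'.toSubmodule.FG ∧ ∃ r : S',
      r.1 ∉ q.asIdeal ∧ Function.Bijective (Localization.awayMap S'.val.toRingHom r) := fun q =>
    Algebra.QuasiFiniteAt.exists_fg_and_exists_notMem_and_awayMap_bijective q.asIdeal
  choose S' hfg r hr hbij using key
  obtain ⟨F, hF⟩ := isCompact_univ.elim_finite_subcover
    (fun q : PrimeSpectrum B => (PrimeSpectrum.basicOpen (r q).1 : Set (PrimeSpectrum B)))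
    (fun q => (PrimeSpectrum.basicOpen (r q).1).2)
    (fun q _ => Set.mem_iUnion.mpr ⟨q, hr q⟩)
  choose g hg using fun q => hfg q
  refine ⟨∑ q : F, (g q.1).card, fun K _ _ => ?_⟩
  let L : F → Type u := fun q => K ⊗[A] Localization.Away (r q.1).1
  let ψ : ∀ q : F, K ⊗[A] B →ₐ[K] L q := fun q =>
    _root_.Algebra.TensorProduct.map (AlgHom.id K K) (IsScalarTower.toAlgHom A B (Localization.Away (r q.1).1))
  -- each piece is spanned by the images of the generators
  have hL : ∀ q : F, Module.Finite K (L q) ∧ Module.finrank K (L q) ≤ (g q.1).card := by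
    intro q
    have hgS : Submodule.span A (((g q.1).subtype fun x => x ∈ S' q.1) : Set (S' q.1)) = ⊤ := by
      apply Submodule.map_injective_of_injective (f := (S' q.1).val.toLinearMap) Subtype.val_injective
      rw [Submodule.map_span, Submodule.map_top]
      have h1 : (S' q.1).val.toLinearMap '' (((g q.1).subtype fun x => x ∈ S' q.1) : Set (S' q.1)) =
          (g q.1 : Set B) := by
        ext x
        simp only [Set.mem_image, Finset.mem_coe, Finset.mem_subtype]
        exact ⟨fun ⟨y, hy, hyx⟩ => hyx ▸ hy,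
          fun hx => ⟨⟨x, (hg q.1).le (Submodule.subset_span hx)⟩, hx, rfl⟩⟩
      have h2 : LinearMap.range (S' q.1).val.toLinearMap = Subalgebra.toSubmodule (S' q.1) := by
        ext x; simp
      rw [h1, h2, hg q.1]
    obtain ⟨hfinS, hleS⟩ := finite_and_finrank_le_card (K := K) _ hgS
    have hcard : Module.finrank K (K ⊗[A] S' q.1) ≤ (g q.1).card :=
      hleS.trans ((Finset.card_subtype _ _).trans_le (Finset.card_filter_le _ _))
    let Φ : K ⊗[A] S' q.1 →ₐ[K] L q := _root_.Algebra.TensorProduct.map (AlgHom.id K K)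
      ((IsScalarTower.toAlgHom A B (Localization.Away (r q.1).1)).comp (S' q.1).val)
    have hsurj : Function.Surjective Φ := surjective_map_away (S' q.1) (r q.1) (hbij q.1)
    exact ⟨Module.Finite.of_surjective Φ.toLinearMap hsurj,
      (LinearMap.finrank_le_finrank_of_surjective (f := Φ.toLinearMap) hsurj).trans hcard⟩
  haveI : ∀ q, Module.Finite K (L q) := fun q => (hL q).1
  let Ψ : K ⊗[A] B →ₗ[K] (q : F) → L q := LinearMap.pi fun q => (ψ q).toLinearMap
  have hΨ : Function.Injective Ψ := by
    rw [injective_iff_map_eq_zero]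
    intro z hz
    have hloc : ∀ q : F, ∃ k : ℕ, ((1 : K) ⊗ₜ[A] (r q.1).1) ^ k * z = 0 := by
      intro q
      letI : Algebra (K ⊗[A] B) (L q) := (ψ q).toRingHom.toAlgebra
      haveI : IsScalarTower K (K ⊗[A] B) (L q) := .of_algebraMap_eq fun c => ((ψ q).commutes c).symm
      haveI := IsLocalization.tensorProduct_tensorProduct_right A K (Submonoid.powers (r q.1).1)
        (Localization.Away (r q.1).1)
        (show (algebraMap (K ⊗[A] B) (L q)).comp
            (_root_.Algebra.TensorProduct.includeRight (R := A) (A := K) (B := B)).toRingHom =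
          (_root_.Algebra.TensorProduct.includeRight (R := A) (A := K)
            (B := Localization.Away (r q.1).1)).toRingHom.comp (algebraMap B _) from
          RingHom.ext fun b => by
            simp [RingHom.algebraMap_toAlgebra, ψ, _root_.Algebra.TensorProduct.map_tmul]; rfl)
      have h0 : algebraMap (K ⊗[A] B) (L q) z = 0 := congrFun hz q
      obtain ⟨⟨_, _, ⟨k, rfl⟩, rfl⟩, hk⟩ := (IsLocalization.map_eq_zero_iff
        ((Submonoid.powers (r q.1).1).map (_root_.Algebra.TensorProduct.includeRight (R := A) (A := K)))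
        (L q) _).mp h0
      refine ⟨k, ?_⟩
      rw [_root_.Algebra.TensorProduct.tmul_pow, one_pow]
      simpa using hk
    choose k hk using hloc
    let I : Ideal (K ⊗[A] B) := Ideal.torsionOf _ _ z
    have hI : Ideal.span (Set.range fun q : F => ((1 : K) ⊗ₜ[A] (r q.1).1) ^ k q) ≤ I := by
      rw [Ideal.span_le]
      rintro _ ⟨q, rfl⟩
      exact hk q
    have htop : Ideal.span (Set.range fun q : F => ((1 : K) ⊗ₜ[A] (r q.1).1) ^ k q) = ⊤ := by
      by_contra hne
      obtain ⟨m, hm, hle⟩ := Ideal.exists_le_maximal _ hne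
      let i : B →+* K ⊗[A] B :=
        (_root_.Algebra.TensorProduct.includeRight : B →ₐ[A] K ⊗[A] B).toRingHom
      obtain ⟨q, hq, hqm⟩ := Set.mem_iUnion₂.mp
        (hF (Set.mem_univ (⟨m.comap i, Ideal.IsPrime.comap (hK := hm.isPrime) i⟩ : PrimeSpectrum B)))
      exact hqm (hm.isPrime.mem_of_pow_mem (k ⟨q, hq⟩) (hle (Ideal.subset_span ⟨⟨q, hq⟩, rfl⟩)))
    have h1 : (1 : K ⊗[A] B) ∈ I := hI (htop ▸ trivial)
    simpa [I] using h1
  refine ⟨Module.Finite.of_injective Ψ hΨ, (LinearMap.finrank_le_finrank_of_injective hΨ).trans ?_⟩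
  rw [Module.finrank_pi_fintype]
  exact Finset.sum_le_sum fun q _ => (hL q).2

end Groth.Agent.Lib.FibreDeg.Algebra
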