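import Groth.Agent.Lib.FibreDeg.Basic
import Groth.Agent.Lib.SchTopo.Basic
import Mathlib.RingTheory.Ideal.Quotient.Operations

/-! Points and residue degrees of finite schemes over a field. -/

set_option autoImplicit false
universe u

open AlgebraicGeometry CategoryTheory Limits

namespace Groth.Agent.Lib.FibreDeg.Points

theorem bijective_Γevaluation_of_field (k : Type u) [Field k] (pt : Spec (CommRingCat.of k)) :
    Function.Bijective ((Scheme.ΓSpecIso (CommRingCat.of k)).inv ≫ (Spec (CommRingCat.of k)).Γevaluation pt).hom := by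
  refine ⟨RingHom.injective _, ?_⟩
  have h : ((Scheme.ΓSpecIso (CommRingCat.of k)).inv ≫ (Spec (CommRingCat.of k)).Γevaluation pt) =
      CommRingCat.ofHom (algebraMap k _) ≫ (Scheme.Spec.residueFieldIso (CommRingCat.of k) pt).inv :=
    (Scheme.Spec.algebraMap_residueFieldIso_inv (CommRingCat.of k) pt).symm
  rw [h, CommRingCat.hom_comp, RingHom.coe_comp]
  have hm : pt.asIdeal.IsMaximal := by
    obtain rfl : pt = IsLocalRing.closedPoint k := Subsingleton.elim (α := PrimeSpectrum k) _ _
    exact IsLocalRing.maximalIdeal.isMaximal k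
  exact (ConcreteCategory.bijective_of_isIso _).2.comp (Ideal.algebraMap_residueField_surjective pt.asIdeal)

theorem surjective_Γevaluation_of_isClosed {T : Scheme.{u}} [IsAffine T] (x : T) (hx : IsClosed ({x} : Set T)) :
    Function.Surjective (T.Γevaluation x).hom := by
  have := (isAffineOpen_top T).isLocalization_stalk (⟨x, trivial⟩ : (⊤ : T.Opens))
  have hm : ((isAffineOpen_top T).primeIdealOf (⟨x, trivial⟩ : (⊤ : T.Opens))).asIdeal.IsMaximal :=
    (isAffineOpen_top T).primeIdealOf_isMaximal_of_isClosed _ hx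
  let A := Γ(T, ⊤)
  letI : Algebra A (T.presheaf.stalk x) := TopCat.Presheaf.algebra_section_stalk T.presheaf (⟨x, trivial⟩ : (⊤ : T.Opens))
  intro y
  obtain ⟨s, rfl⟩ := T.residue_surjective x y
  obtain ⟨a, ⟨b, hb⟩, rfl⟩ := IsLocalization.exists_mk'_eq
    ((isAffineOpen_top T).primeIdealOf (⟨x, trivial⟩ : (⊤ : T.Opens))).asIdeal.primeCompl s
  obtain ⟨c, i, hi, hc⟩ := hm.exists_inv hb
  refine ⟨a * c, ?_⟩
  have hbu : IsUnit (algebraMap A (T.presheaf.stalk x) b) :=
    IsLocalization.map_units (M := ((isAffineOpen_top T).primeIdealOf (⟨x, trivial⟩ : (⊤ : T.Opens))).asIdeal.primeCompl) (T.presheaf.stalk x) ⟨b, hb⟩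
  have hi' : algebraMap A (T.presheaf.stalk x) i ∈ IsLocalRing.maximalIdeal (T.presheaf.stalk x) :=
    (IsLocalization.AtPrime.to_map_mem_maximal_iff (T.presheaf.stalk x) _ i).2 hi
  refine (hbu.map (T.residue x).hom).mul_left_cancel ?_
  have hb1 : (T.residue x).hom (algebraMap A (T.presheaf.stalk x) (c * b)) = 1 := by
    rw [eq_sub_of_add_eq hc, map_sub, map_one, map_sub, map_one, sub_eq_self]
    exact (IsLocalRing.residue_eq_zero_iff _).2 hi'
  show (T.residue x).hom (algebraMap A _ b) * (T.residue x).hom (algebraMap A _ (a * c)) = _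
  refine (map_mul _ _ _).symm.trans ?_
  rw [← map_mul, show b * (a * c) = a * (c * b) by ring, map_mul, map_mul, hb1, mul_one]
  refine Eq.trans ?_ (map_mul (T.residue x).hom _ _)
  congr 1
  exact (IsLocalization.mk'_spec' (T.presheaf.stalk x) a ⟨b, hb⟩).symm

theorem finite_and_sum_residueDegree_le {k : Type u} [Field k] {T : Scheme.{u}}
    (p : T ⟶ Spec (CommRingCat.of k)) (n : ℕ) (h : BddFib.FiniteOfDegLE (CommRingCat.of k) p n) :
    Finite T ∧ ∑ᶠ x : T, p.residueDegree x ≤ n ∧ ∀ x : T, 1 ≤ p.residueDegree x := by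
  obtain ⟨hT, hF, hn⟩ := h
  have hfd := ((Basic.finiteOfDegLE_iff p n).1 ⟨hT, hF, hn⟩).1
  have hfin : Finite T := by
    have h3 := p.finite_preimage_singleton (IsLocalRing.closedPoint k)
    exact Set.finite_univ_iff.1 (h3.subset fun x _ => Subsingleton.elim (α := PrimeSpectrum k) _ _)
  have hcl : ∀ x : T, IsClosed ({x} : Set T) := fun x => by
    refine closure_subset_iff_isClosed.1 fun y hy => ?_
    exact (Groth.Agent.Lib.SchTopo.Basic.isIntegralHom_eq_of_specializes p (specializes_iff_mem_closure.2 hy)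
      (Subsingleton.elim (α := PrimeSpectrum k) _ _)).symm
  let := BddFib.secAlgebra (CommRingCat.of k) p
  haveI : Fintype T := Fintype.ofFinite T
  let ι : ∀ x : T, k →+* (Spec (CommRingCat.of k)).residueField (p x) := fun x =>
    ((Scheme.ΓSpecIso (CommRingCat.of k)).inv ≫ (Spec (CommRingCat.of k)).Γevaluation (p x)).hom
  letI : ∀ x : T, Algebra k (T.residueField x) := fun x =>
    ((p.residueFieldMap x).hom.comp (ι x)).toAlgebra
  have hdeg : ∀ x, p.residueDegree x = Module.finrank k (T.residueField x) := by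
    intro x
    letI := (p.residueFieldMap x).hom.toAlgebra
    exact (Algebra.finrank_eq_of_equiv_equiv (RingEquiv.ofBijective (ι x) (bijective_Γevaluation_of_field k (p x)))
      (RingEquiv.refl _) (RingHom.ext fun _ => rfl)).symm
  have hev : ∀ (x : T) (a : k), (T.Γevaluation x).hom (algebraMap k Γ(T, ⊤) a) = algebraMap k (T.residueField x) a :=
    fun x a => (Scheme.Γevaluation_naturality_apply p x _).symm
  let e : ∀ x : T, Γ(T, ⊤) →ₐ[k] T.residueField x := fun x =>
    { (T.Γevaluation x).hom with commutes' := hev x }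
  have hs : ∀ x, Function.Surjective (e x) := fun x => surjective_Γevaluation_of_isClosed x (hcl x)
  let E : Γ(T, ⊤) →ₐ[k] (∀ x : T, T.residueField x) := AlgHom.pi e
  have hE : Function.Surjective E := by
    intro y
    choose a ha using fun x => hs x (y x)
    have hco : Pairwise fun x z : T => IsCoprime (RingHom.ker (e x).toRingHom) (RingHom.ker (e z).toRingHom) := by
      intro x z hxz
      have hmx := RingHom.ker_isMaximal_of_surjective (e x).toRingHom (hs x)
      have hmz := RingHom.ker_isMaximal_of_surjective (e z).toRingHom (hs z)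
      rw [Ideal.isCoprime_iff_sup_eq]
      refine hmx.coprime_of_ne hmz fun heq => hxz ?_
      have : ∀ w : T, ∀ g : Γ(T, ⊤), g ∈ RingHom.ker (e w).toRingHom ↔ w ∉ T.basicOpen g := fun w g =>
        Scheme.evaluation_eq_zero_iff_notMem_basicOpen (U := ⊤) T w trivial g
      have hb : ∀ g : Γ(T, ⊤), x ∈ T.basicOpen g ↔ z ∈ T.basicOpen g := fun g => not_iff_not.1 (by
        rw [← this x g, ← this z g, heq])
      refine (Inseparable.eq ((inseparable_iff_forall_isOpen).2 fun o ho => ?_))
      constructor <;> intro h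
      · obtain ⟨g, hg, hxg⟩ := (isAffineOpen_top T).exists_basicOpen_le (V := ⟨o, ho⟩) ⟨x, h⟩ trivial
        exact hg ((hb g).1 hxg)
      · obtain ⟨g, hg, hzg⟩ := (isAffineOpen_top T).exists_basicOpen_le (V := ⟨o, ho⟩) ⟨z, h⟩ trivial
        exact hg ((hb g).2 hzg)
    obtain ⟨r, hr⟩ := Ideal.exists_forall_sub_mem_ideal hco a
    refine ⟨r, funext fun x => ?_⟩
    have := hr x
    rw [RingHom.mem_ker] at this
    show e x r = y x
    rw [← ha x]
    exact sub_eq_zero.1 ((map_sub (e x) _ _).symm.trans this)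
  have hsurjx : ∀ x, Module.Finite k (T.residueField x) := fun x =>
    Module.Finite.of_surjective (e x).toLinearMap (hs x)
  refine ⟨hfin, ?_, fun x => ?_⟩
  · rw [finsum_eq_sum_of_fintype, Finset.sum_congr rfl (fun x _ => hdeg x), ← Module.finrank_pi_fintype k]
    exact (LinearMap.finrank_le_finrank_of_injective (f := E.toLinearMap.dualMap) (LinearMap.dualMap_injective_of_surjective hE)).trans' (by rw [Subspace.dual_finrank_eq]) |>.trans (by rw [Subspace.dual_finrank_eq]; exact hn)
  · rw [hdeg x]
    exact Module.finrank_pos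

theorem natCard_le {k : Type u} [Field k] {T : Scheme.{u}}
    (p : T ⟶ Spec (CommRingCat.of k)) (n : ℕ) (h : BddFib.FiniteOfDegLE (CommRingCat.of k) p n) :
    Finite T ∧ Nat.card T ≤ n := by
  obtain ⟨hfin, hsum, h1⟩ := finite_and_sum_residueDegree_le p n h
  refine ⟨hfin, le_trans ?_ hsum⟩
  haveI : Fintype T := Fintype.ofFinite T
  rw [finsum_eq_sum_of_fintype, Nat.card_eq_fintype_card, Fintype.card_eq_sum_ones]
  exact Finset.sum_le_sum fun x _ => h1 x

end Groth.Agent.Lib.FibreDeg.Points
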