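import Groth.Agent.Lib.FibreDeg.Basic
import Groth.Agent.Lib.FibreDeg.Points
import Groth.Agent.Lib.FibreDeg.Algebra
import Mathlib.AlgebraicGeometry.Artinian

/-! Fibre degrees: composition, affine criterion, covers. -/

set_option autoImplicit false
universe u

open AlgebraicGeometry CategoryTheory Limits TopologicalSpace
open scoped TensorProduct

namespace Groth.Agent.Lib.FibreDeg.Compose

theorem fd_specMap_iff {K C : Type u} [Field K] [CommRing C] [Algebra K C] (n : ℕ) :
    Basic.FD (Spec.map (CommRingCat.ofHom (algebraMap K C))) n ↔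
      Module.Finite K C ∧ Module.finrank K C ≤ n := by
  have hf : IsFinite (Spec.map (CommRingCat.ofHom (algebraMap K C))) ↔ Module.Finite K C := by
    rw [IsFinite.SpecMap_iff]
    exact RingHom.finite_algebraMap
  have hr : Module.Finite K C → ∀ s, (Spec.map (CommRingCat.ofHom (algebraMap K C))).finrank s =
      Module.finrank K C := fun _ s => by
    rw [Scheme.Hom.finrank_SpecMap_algebraMap, Module.rankAtStalk_eq_finrank_of_free]
    rfl
  constructor
  · rintro ⟨h1, h2⟩
    exact ⟨hf.1 h1, (hr (hf.1 h1) (IsLocalRing.closedPoint K)).ge.trans (h2 _)⟩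
  · rintro ⟨h1, h2⟩
    exact ⟨hf.2 h1, fun s => (hr h1 s).le.trans h2⟩

theorem fd_fiber_specMap_iff {A B : Type u} [CommRing A] [CommRing B] [Algebra A B]
    (p : PrimeSpectrum A) (n : ℕ) :
    Basic.FD ((Spec.map (CommRingCat.ofHom (algebraMap A B))).fiberToSpecResidueField p) n ↔
      Module.Finite p.asIdeal.ResidueField (p.asIdeal.Fiber B) ∧
        Module.finrank p.asIdeal.ResidueField (p.asIdeal.Fiber B) ≤ n := by
  rw [← fd_specMap_iff]
  let e := Spec.fiberToSpecResidueFieldIso A B p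
  exact Basic.fd_iff_of_isPullback (K := p.asIdeal.ResidueField)
    (L := (Spec (CommRingCat.of A)).residueField p)
    (IsPullback.of_horiz_isIso (fst := e.hom.left) (g := e.hom.right) ⟨e.hom.w⟩) n

theorem fibreDegLE_specMap_iff {A B : Type u} [CommRing A] [CommRing B] [Algebra A B] (n : ℕ) :
    BddFib.FibreDegLE (Spec.map (CommRingCat.ofHom (algebraMap A B))) n ↔
      ∀ p : PrimeSpectrum A, Module.Finite p.asIdeal.ResidueField (p.asIdeal.Fiber B) ∧
        Module.finrank p.asIdeal.ResidueField (p.asIdeal.Fiber B) ≤ n := by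
  rw [Basic.fibreDegLE_iff]
  exact forall_congr' fun p => fd_fiber_specMap_iff p n

theorem fibreDegLE_of_isPullback {X Y X' Y' : Scheme.{u}} {f : X ⟶ Y} {g : Y' ⟶ Y} {f' : X' ⟶ Y'}
    {g' : X' ⟶ X} (h : IsPullback g' f' f g) {n : ℕ} (hf : BddFib.FibreDegLE f n) :
    BddFib.FibreDegLE f' n := by
  rw [Basic.fibreDegLE_iff] at hf ⊢
  exact fun y => (Basic.fd_fiber_iff_of_isPullback h y n).2 (hf (g y))

/-- Points of a scheme finite over a field are finitely many and closed. -/
theorem finite_and_isClosed {K : Type u} [Field K] {T : Scheme.{u}} {p : T ⟶ Spec (CommRingCat.of K)}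
    (h : IsFinite p) : Finite T ∧ ∀ x : T, IsClosed ({x} : Set T) := by
  refine ⟨?_, fun x => ?_⟩
  · have h3 := p.finite_preimage_singleton (IsLocalRing.closedPoint K)
    exact Set.finite_univ_iff.1 (h3.subset fun x _ => Subsingleton.elim (α := PrimeSpectrum K) _ _)
  · refine closure_subset_iff_isClosed.1 fun y hy => ?_
    exact (Groth.Agent.Lib.SchTopo.Basic.isIntegralHom_eq_of_specializes p (specializes_iff_mem_closure.2 hy)
      (Subsingleton.elim (α := PrimeSpectrum K) _ _)).symm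

theorem isAffine_of_finite_of_isClosed {T : Scheme.{u}} [Finite T]
    (h : ∀ x : T, IsClosed ({x} : Set T)) : IsAffine T := by
  have : T1Space T := ⟨h⟩
  have : DiscreteTopology T := Finite.instDiscreteTopology
  infer_instance

theorem fd_comp {K : Type u} [Field K] {X Y : Scheme.{u}} (f : X ⟶ Y) (q : Y ⟶ Spec (CommRingCat.of K))
    {n m : ℕ} (hf : BddFib.FibreDegLE f n) (hq : Basic.FD q m) : Basic.FD (f ≫ q) (n * m) := by
  obtain ⟨hY, hYf, hYn⟩ := (Basic.finiteOfDegLE_iff q m).2 hq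
  obtain ⟨hYfin, hYcl⟩ := finite_and_isClosed hq.1
  have hfib := (Basic.fibreDegLE_iff f n).1 hf
  have hX : Finite X ∧ ∀ x : X, IsClosed ({x} : Set X) := by
    refine ⟨?_, fun x => ?_⟩
    · have : ∀ y : Y, Finite (f.fiber y) := fun y => (finite_and_isClosed (hfib y).1).1
      exact Finite.of_surjective (fun a : Σ y : Y, f.fiber y => f.fiberι a.1 a.2)
        fun x => ⟨⟨f x, f.asFiber x⟩, f.fiberι_asFiber x⟩
    · have hemb : Topology.IsClosedEmbedding (f.fiberι (f x)) := by
        refine ⟨(f.fiberι (f x)).isEmbedding, ?_⟩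
        rw [f.range_fiberι]
        exact (hYcl (f x)).preimage f.continuous
      have := hemb.isClosedMap _ ((finite_and_isClosed (hfib (f x)).1).2 (f.asFiber x))
      rwa [Set.image_singleton, f.fiberι_asFiber] at this
  have := hX.1
  haveI := isAffine_of_finite_of_isClosed hX.2
  rw [← Basic.finiteOfDegLE_iff]
  let A := Γ(Y, ⊤)
  let B := Γ(X, ⊤)
  letI : Algebra K A := BddFib.secAlgebra (CommRingCat.of K) q
  letI : Algebra K B := BddFib.secAlgebra (CommRingCat.of K) (f ≫ q)
  letI : Algebra A B := f.appTop.hom.toAlgebra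
  haveI : IsScalarTower K A B := .of_algebraMap_eq fun c => by
    change ((Scheme.ΓSpecIso (CommRingCat.of K)).inv ≫ (f ≫ q).appTop).hom c = _
    rfl
  have hB : BddFib.FibreDegLE (Spec.map (CommRingCat.ofHom (algebraMap A B))) n :=
    fibreDegLE_of_isPullback (IsPullback.of_horiz_isIso (fst := X.isoSpec.inv) (g := Y.isoSpec.inv)
      ⟨(Scheme.isoSpec_inv_naturality f).symm⟩) hf
  exact ⟨inferInstance,
    @Algebra.finite_and_finrank_le K A B _ _ _ _ _ _ _ hYf _ _ hYn ((fibreDegLE_specMap_iff n).1 hB)⟩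

theorem fibreDegLE_comp {X Y Z : Scheme.{u}} (f : X ⟶ Y) (g : Y ⟶ Z) {n m : ℕ}
    (hf : BddFib.FibreDegLE f n) (hg : BddFib.FibreDegLE g m) :
    BddFib.FibreDegLE (f ≫ g) (n * m) := by
  rw [Basic.fibreDegLE_iff] at hg ⊢
  intro z
  let f₀ := pullback.snd f (g.fiberι z)
  have h1 := fd_comp f₀ (g.fiberToSpecResidueField z)
    (fibreDegLE_of_isPullback (IsPullback.of_hasPullback f (g.fiberι z)) hf) (hg z)
  have hP : IsPullback (pullback.fst f (g.fiberι z)) (f₀ ≫ g.fiberToSpecResidueField z) (f ≫ g)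
      (Z.fromSpecResidueField z) :=
    (IsPullback.of_hasPullback f (g.fiberι z)).paste_vert (IsPullback.of_hasPullback g _)
  haveI := Basic.flat_of_field ((f ≫ g).fiberToSpecResidueField z)
  have h2 : hP.isoPullback.hom ≫ (f ≫ g).fiberToSpecResidueField z = f₀ ≫ g.fiberToSpecResidueField z :=
    hP.isoPullback_hom_snd
  exact (Basic.fd_comp_iso hP.isoPullback.hom _ _).1
    ((congrArg (fun a => Basic.FD a (n * m)) h2).mpr h1)

/-- A finite family of pieces covering a scheme over a field. -/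
theorem fd_of_cover {K : Type u} [Field K] {T : Scheme.{u}} (p : T ⟶ Spec (CommRingCat.of K))
    {ι : Type u} [Fintype ι] (U : ι → T.Opens) (hU : ⨆ i, U i = ⊤) (n : ι → ℕ)
    (h : ∀ i, Basic.FD ((U i).ι ≫ p) (n i)) : Basic.FD p (∑ i, n i) := by
  classical
  have hcov : ∀ x : T, ∃ i, x ∈ U i := fun x => Opens.mem_iSup.1 (hU.ge (Set.mem_univ x))
  have hT : Finite T ∧ ∀ x : T, IsClosed ({x} : Set T) := by
    refine ⟨?_, fun x => ?_⟩
    · have : ∀ i, Finite (U i : Scheme.{u}) := fun i => (finite_and_isClosed (h i).1).1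
      exact Finite.of_surjective (fun a : Σ i, (U i : Scheme.{u}) => (U a.1).ι a.2)
        fun x => let ⟨i, hi⟩ := hcov x; ⟨⟨i, ⟨x, hi⟩⟩, rfl⟩
    · refine closure_subset_iff_isClosed.1 fun y hy => ?_
      obtain ⟨i, hi⟩ := hcov y
      have hs : x ⤳ y := specializes_iff_mem_closure.2 hy
      have hxi : x ∈ U i := hs.mem_open (U i).2 hi
      have h2 : (⟨x, hxi⟩ : (U i : Scheme.{u})) ⤳ ⟨y, hi⟩ :=
        (U i).ι.isOpenEmbedding.isInducing.specializes_iff.1 hs
      have := specializes_iff_mem_closure.1 h2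
      exact congrArg Subtype.val (Set.mem_singleton_iff.mp
        (((finite_and_isClosed (h i).1).2 ⟨x, hxi⟩).closure_subset this))
  have := hT.1
  haveI := isAffine_of_finite_of_isClosed hT.2
  rw [← Basic.finiteOfDegLE_iff]
  have hi := fun i => (Basic.finiteOfDegLE_iff ((U i).ι ≫ p) (n i)).2 (h i)
  letI : Algebra K Γ(T, ⊤) := BddFib.secAlgebra (CommRingCat.of K) p
  letI : ∀ i, Algebra K Γ((U i : Scheme.{u}), ⊤) := fun i =>
    BddFib.secAlgebra (CommRingCat.of K) ((U i).ι ≫ p)
  let r : ∀ i, Γ(T, ⊤) →ₐ[K] Γ((U i : Scheme.{u}), ⊤) := fun i =>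
    { (U i).ι.appTop.hom with commutes' := fun c => rfl }
  let R : Γ(T, ⊤) →ₗ[K] (i : ι) → Γ((U i : Scheme.{u}), ⊤) := LinearMap.pi fun i => (r i).toLinearMap
  have hR : Function.Injective R := by
    intro a b hab
    refine T.sheaf.eq_of_locally_eq' (fun i => (U i).ι ''ᵁ ⊤) ⊤ (fun i => homOfLE le_top) ?_ a b
      fun i => congrFun hab i
    simp only [Scheme.Opens.ι_image_top, hU, le_refl]
  haveI : ∀ i, Module.Finite K Γ((U i : Scheme.{u}), ⊤) := fun i => (hi i).2.1
  refine ⟨inferInstance, Module.Finite.of_injective R hR, ?_⟩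
  refine (LinearMap.finrank_le_finrank_of_injective hR).trans ?_
  rw [Module.finrank_pi_fintype]
  exact Finset.sum_le_sum fun i _ => (hi i).2.2

end Groth.Agent.Lib.FibreDeg.Compose
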