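import Groth.Agent.Lib.FibreDeg.Basic
import Groth.Agent.S9762
import Groth.Agent.Lib.AlgSpMor.AffineDescent
import Groth.Prelude.Def_Mor2

/-!
Fibre degrees of flat separated quasi-finite morphisms with finite fibres: lower semicontinuity and
finiteness where the degree is constant.
-/

set_option autoImplicit false

universe u

open AlgebraicGeometry CategoryTheory Limits

namespace Groth.Agent.Lib.FibreDeg.Strat

open Basic

/-- All fibres are finite over their fields. -/
def FiniteFibres {X S : Scheme.{u}} (f : X ⟶ S) : Prop := ∀ s, IsFinite (f.fiberToSpecResidueField s)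

/-- The degree of the fibre. -/
noncomputable def deg {X S : Scheme.{u}} (f : X ⟶ S) (s : S) : ℕ :=
  (f.fiberToSpecResidueField s).finrank (IsLocalRing.closedPoint (S.residueField s))

theorem finrank_eq_deg {X S : Scheme.{u}} {f : X ⟶ S} (s : S) (p) :
    (f.fiberToSpecResidueField s).finrank p = deg f s :=
  congrArg _ (Subsingleton.elim (α := PrimeSpectrum (S.residueField s)) _ _)

variable {X S X' S' : Scheme.{u}} {f : X ⟶ S} {f' : X' ⟶ S'} {g : S' ⟶ S} {g' : X' ⟶ X}

theorem finiteFibres_baseChange (h : IsPullback g' f' f g) (hf : FiniteFibres f) : FiniteFibres f' :=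
  fun t => have : IsFinite (f.fiberToSpecResidueField (g t)) := hf (g t)
    MorphismProperty.of_isPullback (P := @IsFinite) (isPullback_fiberToSpecResidueField_of_isPullback h t) ‹_›

theorem deg_baseChange (h : IsPullback g' f' f g) (hf : FiniteFibres f) (t : S') :
    deg f' t = deg f (g t) := by
  have : IsFinite (f.fiberToSpecResidueField (g t)) := hf (g t)
  have := flat_of_field (K := S.residueField (g t)) (f.fiberToSpecResidueField (g t))
  exact (Scheme.Hom.finrank_of_isPullback _ _ (f.fiberToSpecResidueField (g t)) _ (isPullback_fiberToSpecResidueField_of_isPullback h t) _).trans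
    (finrank_eq_deg (f := f) (g t) _)

theorem deg_eq_finrank [IsFinite f] [Flat f] (s : S) : deg f s = f.finrank s := by
  refine (Scheme.Hom.finrank_of_isPullback (f.fiberι s) (f.fiberToSpecResidueField s) f _
    (IsPullback.of_hasPullback _ _) _).trans ?_
  rw [Scheme.fromSpecResidueField_apply]

theorem finiteFibres_of_isFinite [IsFinite f] : FiniteFibres f :=
  fun s => inferInstanceAs (IsFinite (pullback.snd f (S.fromSpecResidueField s)))

/-- A closed subscheme of a finite scheme over a field has smaller degree, with equality only if it is everything. -/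
theorem finrank_closedImmersion {K : Type u} [Field K] {Z T : Scheme.{u}} (j : Z ⟶ T)
    [IsClosedImmersion j] (p : T ⟶ Spec (CommRingCat.of K)) [IsFinite p] (pt : Spec (CommRingCat.of K)) :
    (j ≫ p).finrank pt ≤ p.finrank pt ∧ ((j ≫ p).finrank pt = p.finrank pt → IsIso j) := by
  have key : ∀ {T : Scheme.{u}} (p : T ⟶ Spec (CommRingCat.of K)) [IsFinite p],
      letI := BddFib.secAlgebra (CommRingCat.of K) p
      Module.Finite K Γ(T, ⊤) ∧ p.finrank pt = Module.finrank K Γ(T, ⊤) := by
    intro T p _
    letI := BddFib.secAlgebra (CommRingCat.of K) p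
    have hfd : FD p (p.finrank pt) := ⟨inferInstance, fun s => (congrArg p.finrank (Subsingleton.elim (α := PrimeSpectrum K) s pt)).le⟩
    obtain ⟨hT, hF, hn⟩ := (finiteOfDegLE_iff p _).2 hfd
    exact ⟨hF, le_antisymm (((finiteOfDegLE_iff p _).1 ⟨hT, hF, le_rfl⟩).2 pt) hn⟩
  have : IsAffine T := isAffine_of_isAffineHom p
  have : IsAffine Z := isAffine_of_isAffineHom j
  obtain ⟨hT, hT'⟩ := key p
  obtain ⟨hZ, hZ'⟩ := key (j ≫ p)
  letI := BddFib.secAlgebra (CommRingCat.of K) p
  letI := BddFib.secAlgebra (CommRingCat.of K) (j ≫ p)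
  let φ : Γ(T, ⊤) →ₗ[K] Γ(Z, ⊤) :=
    { toFun := j.appTop
      map_add' := map_add j.appTop.hom
      map_smul' := fun k x => by
        rw [Algebra.smul_def, Algebra.smul_def, map_mul]
        rfl }
  have hsurj : Function.Surjective φ := ((isClosedImmersion_iff_isAffineHom).1 inferInstance).2 ⊤ (isAffineOpen_top T)
  rw [hT', hZ']
  refine ⟨LinearMap.finrank_le_finrank_of_surjective hsurj, fun he => ?_⟩
  have hinj : Function.Injective φ := (LinearMap.injective_iff_surjective_of_finrank_eq_finrank he.symm).2 hsurj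
  have : IsIso j.appTop := (ConcreteCategory.isIso_iff_bijective _).2 ⟨hinj, hsurj⟩
  exact ((MorphismProperty.isomorphisms Scheme).arrow_mk_iso_iff (arrowIsoSpecΓOfIsAffine j)).2 (inferInstanceAs (IsIso (Spec.map j.appTop)))

theorem finrank_eq_of_iso {T T' Y : Scheme.{u}} {p : T ⟶ Y} {q : T' ⟶ Y} (e : T' ≅ T) (hp : IsFinite p)
    (hp' : Flat p) (h : e.hom ≫ p = q) (y : Y) : q.finrank y = p.finrank y :=
  h ▸ congrFun (Scheme.Hom.finrank_comp_left_of_isIso e.hom p) y

theorem deg_closed_le {V : Scheme.{u}} (j : V ⟶ X) [IsClosedImmersion j] (hf : FiniteFibres f) (s : S) :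
    deg (j ≫ f) s ≤ deg f s ∧ (deg (j ≫ f) s = deg f s → ∀ x, f x = s → x ∈ Set.range j) := by
  have : IsFinite (f.fiberToSpecResidueField s) := hf s
  let Q := pullback j (f.fiberι s)
  let jq : Q ⟶ f.fiber s := pullback.snd j (f.fiberι s)
  have sq : IsPullback (pullback.fst j (f.fiberι s)) (jq ≫ f.fiberToSpecResidueField s) (j ≫ f)
      (S.fromSpecResidueField s) :=
    (IsPullback.of_hasPullback j (f.fiberι s)).paste_vert (IsPullback.of_hasPullback f _)
  let e := sq.isoIsPullback _ _ (IsPullback.of_hasPullback (j ≫ f) (S.fromSpecResidueField s))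
  have he : e.hom ≫ (j ≫ f).fiberToSpecResidueField s = jq ≫ f.fiberToSpecResidueField s :=
    IsPullback.isoIsPullback_hom_snd _ _ _ _
  have : IsFinite (jq ≫ f.fiberToSpecResidueField s) := inferInstance
  have : IsFinite ((j ≫ f).fiberToSpecResidueField s) := by
    have h : IsFinite (e.hom ≫ (j ≫ f).fiberToSpecResidueField s) := he ▸ ‹_›
    exact (MorphismProperty.cancel_left_of_respectsIso @IsFinite e.hom ((j ≫ f).fiberToSpecResidueField s)).1 h
  have := flat_of_field (K := S.residueField s) ((j ≫ f).fiberToSpecResidueField s)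
  have hd : deg (j ≫ f) s =
      (jq ≫ f.fiberToSpecResidueField s).finrank (IsLocalRing.closedPoint (S.residueField s)) :=
    (finrank_eq_of_iso e ‹_› ‹_› he _).symm
  obtain ⟨h1, h2⟩ := finrank_closedImmersion (K := S.residueField s) jq (f.fiberToSpecResidueField s) (IsLocalRing.closedPoint _)
  refine ⟨hd ▸ h1, fun heq x hx => ?_⟩
  have := h2 (hd.symm.trans heq)
  obtain ⟨y, hy⟩ : x ∈ Set.range (f.fiberι s) := by
    rw [Scheme.Hom.range_fiberι]; exact hx
  obtain ⟨w, hw⟩ := jq.surjective y
  exact ⟨pullback.fst j (f.fiberι s) w, by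
    rw [← Scheme.Hom.comp_apply, pullback.condition, Scheme.Hom.comp_apply, hw, hy]⟩

variable [Flat f] [LocallyOfFinitePresentation f] [IsSeparated f] [LocallyQuasiFinite f]

/-- Etale neighbourhood on which a finite clopen part carries the degree. -/
theorem exists_finite_part (hf : FiniteFibres f) (s : S) :
    ∃ (U : Scheme.{u}) (g : U ⟶ S) (u : U) (V : (pullback f g).Opens) (_ : IsClosedImmersion V.ι),
      Etale g ∧ g u = s ∧ IsFinite (V.ι ≫ pullback.snd f g) ∧
      ∀ u', deg f s ≤ deg f (g u') ∧
        (deg f (g u') = deg f s → ∀ w, pullback.snd f g w = u' → w ∈ V) := by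
  have hfin : {x : ↑(f.fiber s) | IsOpen ({x} : Set ↑(f.fiber s))}.Finite := by
    have := hf s
    have : LocallyQuasiFinite (f.fiberToSpecResidueField s) := inferInstance
    have : Finite (f.fiber s) := Set.finite_univ_iff.1
      (((f.fiberToSpecResidueField s).finite_preimage_singleton (IsLocalRing.closedPoint _)).subset
        fun x _ => Subsingleton.elim (α := PrimeSpectrum (S.residueField s)) _ _)
    exact Set.toFinite _
  obtain ⟨U, g, u, hg, V, hV, hVfin, hVall⟩ := Groth.Agent.S9762.result f s hfin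
  have := hg.etale
  have : IsClosedImmersion V.ι := IsClosedImmersion.of_isPreimmersion _ (by
    rw [Scheme.Opens.range_ι]; exact hV.isClosed)
  have := hVfin
  have hsnd : FiniteFibres (pullback.snd f g) := finiteFibres_baseChange (IsPullback.of_hasPullback f g) hf
  have hdeg : ∀ u', deg f (g u') = deg (pullback.snd f g) u' :=
    fun u' => (deg_baseChange (IsPullback.of_hasPullback f g) hf u').symm
  -- at `u` the finite part is the whole fibre
  have hu : deg (V.ι ≫ pullback.snd f g) u = deg (pullback.snd f g) u := by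
    have hall : ∀ w : ↑((pullback.snd f g).fiber u), (pullback.snd f g).fiberι u w ∈ V := fun w => by
      by_contra hw
      refine hVall w hw ?_
      have := (Scheme.Hom.isDiscrete_preimage_singleton (pullback.snd f g) u).to_subtype
      have : DiscreteTopology ↑((pullback.snd f g).fiber u) :=
        ((pullback.snd f g).fiberHomeo u).symm.discreteTopology
      exact isOpen_discrete _
    let Q := pullback V.ι ((pullback.snd f g).fiberι u)
    let jq : Q ⟶ (pullback.snd f g).fiber u := pullback.snd V.ι ((pullback.snd f g).fiberι u)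
    have : Surjective jq := ⟨fun w => by
      obtain ⟨q, -, hq⟩ := Scheme.Pullback.exists_preimage_pullback (f := V.ι)
        (g := (pullback.snd f g).fiberι u) ⟨_, hall w⟩ w rfl
      exact ⟨q, hq⟩⟩
    have : IsIso jq := (isIso_iff_isOpenImmersion_and_surjective jq).2 ⟨inferInstance, inferInstance⟩
    have sq : IsPullback (pullback.fst V.ι ((pullback.snd f g).fiberι u))
        (jq ≫ (pullback.snd f g).fiberToSpecResidueField u) (V.ι ≫ pullback.snd f g)
        (U.fromSpecResidueField u) :=
      (IsPullback.of_hasPullback _ _).paste_vert (IsPullback.of_hasPullback _ _)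
    let e := sq.isoIsPullback _ _ (IsPullback.of_hasPullback _ _)
    have he : e.hom ≫ (V.ι ≫ pullback.snd f g).fiberToSpecResidueField u =
        jq ≫ (pullback.snd f g).fiberToSpecResidueField u :=
      IsPullback.isoIsPullback_hom_snd _ _ _ _
    have := hsnd u
    have := flat_of_field (K := U.residueField u) ((pullback.snd f g).fiberToSpecResidueField u)
    have := finiteFibres_of_isFinite (f := V.ι ≫ pullback.snd f g) u
    have := flat_of_field (K := U.residueField u) ((V.ι ≫ pullback.snd f g).fiberToSpecResidueField u)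
    exact ((finrank_eq_of_iso e ‹_› ‹_› he _).symm.trans
      (finrank_eq_of_iso (asIso jq) ‹_› ‹_› rfl _))
  let W : U.Opens := ⟨{u' | (V.ι ≫ pullback.snd f g).finrank u' = (V.ι ≫ pullback.snd f g).finrank u},
    ((V.ι ≫ pullback.snd f g).isLocallyConstant_finrank).isOpen_fiber _⟩
  have h0 : ∀ u' : (W : Scheme.{u}), deg f s = deg (V.ι ≫ pullback.snd f g) (W.ι u') := fun u' => by
    rw [deg_eq_finrank (f := V.ι ≫ pullback.snd f g), show (V.ι ≫ pullback.snd f g).finrank (W.ι u') = _ from u'.2, ← deg_eq_finrank (f := V.ι ≫ pullback.snd f g),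
      hu, ← hdeg, hg.base_eq]
  -- restrict to `W`
  let m : pullback f (W.ι ≫ g) ⟶ pullback f g :=
    pullback.lift (pullback.fst f (W.ι ≫ g)) (pullback.snd f (W.ι ≫ g) ≫ W.ι)
      (by rw [pullback.condition, Category.assoc])
  have hm : IsPullback m (pullback.snd f (W.ι ≫ g)) (pullback.snd f g) W.ι := by
    refine IsPullback.of_right (h₁₂ := pullback.fst f g) ?_ (pullback.lift_snd _ _ _) (IsPullback.of_hasPullback f g)
    have e : m ≫ pullback.fst f g = pullback.fst f (W.ι ≫ g) := pullback.lift_fst _ _ _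
    rw [e]
    exact IsPullback.of_hasPullback _ _
  have hcl : IsClosedImmersion (m ⁻¹ᵁ V).ι := IsClosedImmersion.of_isPreimmersion _ (by
    rw [Scheme.Opens.range_ι]; exact hV.isClosed.preimage m.continuous)
  have hfin' : IsFinite ((m ⁻¹ᵁ V).ι ≫ pullback.snd f (W.ι ≫ g)) :=
    MorphismProperty.of_isPullback ((isPullback_morphismRestrict m V).paste_vert hm) ‹IsFinite _›
  refine ⟨W, W.ι ≫ g, ⟨u, rfl⟩, m ⁻¹ᵁ V, hcl, inferInstance, hg.base_eq, hfin', fun u' => ?_⟩
  have hle := deg_closed_le V.ι hsnd (W.ι u')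
  rw [← h0 u', ← hdeg] at hle
  refine ⟨hle.1, fun he w hw => ?_⟩
  have hmem := hle.2 he.symm (m w) (by
    rw [← Scheme.Hom.comp_apply, hm.w, Scheme.Hom.comp_apply, hw])
  rwa [Scheme.Opens.range_ι] at hmem

theorem isOpen_le_deg (hf : FiniteFibres f) (d : ℕ) : IsOpen {s | d ≤ deg f s} := by
  rw [isOpen_iff_forall_mem_open]
  intro s hs
  obtain ⟨U, g, u, V, hc, hg, rfl, -, h⟩ := exists_finite_part hf s
  exact ⟨Set.range g, by rintro _ ⟨u', rfl⟩; exact le_trans (α := ℕ) hs (h u').1,
    g.isOpenMap.isOpen_range, u, rfl⟩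

theorem isFinLocFree_of_deg_eq (hf : FiniteFibres f) {r : ℕ} (hr : ∀ s, deg f s = r) :
    Mor2.IsFinLocFreeOfDeg r f := by
  choose U g u V hc hg hgu hfin hV using exists_finite_part hf
  have hfinite : IsFinite f := by
    let 𝒰 : Scheme.Cover (Scheme.precoverage (@Flat ⊓ @LocallyOfFinitePresentation)) S :=
      { I₀ := S
        X := U
        f := g
        mem₀ := by
          rw [Scheme.presieve₀_mem_precoverage_iff]
          exact ⟨fun s => ⟨s, u s, hgu s⟩, fun s => ⟨have := hg s; inferInstance, have := hg s; inferInstance⟩⟩ }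
    have := AlgSpMor.AffineDescent.isLocalAtTarget_isFinite.{u}
    rw [MorphismProperty.IsLocalAtTarget.iff_of_zeroHypercover (P := @IsFinite) (K := Scheme.fppfPrecoverage) 𝒰]
    intro s
    show IsFinite (pullback.snd f (g s))
    have hsurj : Surjective (V s).ι := ⟨fun w => ⟨⟨w, (hV s _).2 (by rw [hr, hr]) w rfl⟩, rfl⟩⟩
    have : IsIso (V s).ι := (isIso_iff_isOpenImmersion_and_surjective _).2 ⟨inferInstance, inferInstance⟩
    exact (MorphismProperty.cancel_left_of_respectsIso @IsFinite (V s).ι _).1 (hfin s)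
  exact ⟨⟨hfinite, inferInstance, inferInstance⟩, fun s => (deg_eq_finrank s).symm.trans (hr s)⟩

end Groth.Agent.Lib.FibreDeg.Strat
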